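import Groth.Agent.S15127

/-! A unipotent Hopf algebra is faithfully flat over its coideal subalgebras. -/

set_option autoImplicit false
set_option maxHeartbeats 1000000
set_option synthInstance.maxHeartbeats 400000

universe u

open scoped TensorProduct ComodLib
open HopfRep WithConv
open Groth.Agent.UnipHopf

namespace PurInsLib.Coideal

variable {k : Type u} [Field k] {H : Type u} [CommRing H] [HopfAlgebra k H]

local notation "𝔸" => ComodLib.Dual' k H

theorem flat_prod {R : Type u} [CommRing R] {M N : Type u} [AddCommGroup M] [AddCommGroup N]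
    [Module R M] [Module R N] [Module.Flat R M] [Module.Flat R N] : Module.Flat R (M × N) := by
  rw [Module.Flat.iff_lTensor_injectiveₛ]
  intro P _ _ Q
  let e := TensorProduct.prodLeft R R M N Q
  let e' := TensorProduct.prodLeft R R M N P
  have h : ∀ z, e' (Q.subtype.lTensor (M × N) z) =
      Prod.map (Q.subtype.lTensor M) (Q.subtype.lTensor N) (e z) := by
    intro z
    induction z using TensorProduct.induction_on with
    | zero => simp [Prod.map, Prod.ext_iff]
    | tmul m q => obtain ⟨a, b⟩ := m; simp [e, e']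
    | add a b ha hb => simp [map_add, ha, hb, Prod.map]
  intro a b hab
  refine e.injective ?_
  have := congr_arg e' hab
  rw [h, h] at this
  exact (Function.Injective.prodMap (Module.Flat.lTensor_preserves_injective_linearMap _
    Q.subtype_injective) (Module.Flat.lTensor_preserves_injective_linearMap _
      Q.subtype_injective)) this

variable {C : Subalgebra k H}

/-- A stable flat `C`-submodule of `H` retracting onto `C`. -/
def Good (M : Submodule C H) : Prop :=
  (∀ f : 𝔸, ∀ m ∈ M, f • m ∈ M) ∧ Module.Flat C M ∧ ∃ (h1 : (1 : H) ∈ M) (l : M →ₗ[C] C), l ⟨1, h1⟩ = 1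

theorem comul_mem (W : Submodule k H) (hW : ∀ f : 𝔸, ∀ w ∈ W, f • w ∈ W) {w : H} (hw : w ∈ W) :
    CoalgebraStruct.comul (R := k) w ∈ LinearMap.range (W.subtype.rTensor H) :=
  (ComodLib.isSubcomod_iff W).2 hW w hw

theorem good_one (hC : ∀ f : 𝔸, ∀ c ∈ C, f • c ∈ C) : Good (LinearMap.range (Algebra.linearMap C H)) := by
  refine ⟨?_, Module.Flat.of_linearEquiv
    (LinearEquiv.ofInjective (Algebra.linearMap C H) Subtype.val_injective).symm, ⟨1, map_one (algebraMap C H)⟩,
    (LinearEquiv.ofInjective (Algebra.linearMap C H) Subtype.val_injective).symm.toLinearMap, ?_⟩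
  · rintro f _ ⟨c, rfl⟩
    exact ⟨⟨_, hC f _ c.2⟩, rfl⟩
  · refine (LinearEquiv.ofInjective (Algebra.linearMap C H) Subtype.val_injective).symm_apply_eq.2 ?_
    exact Subtype.ext (map_one (algebraMap C H)).symm

/-- One step of the filtration by trivial quotients. -/
theorem exists_good_step (hU : IsUnipotent k H) (hC : ∀ f : 𝔸, ∀ c ∈ C, f • c ∈ C)
    {M : Submodule C H} (hM : Good M) {h : H} (hh : ∀ f : 𝔸, f (1 : H) = 0 → f • h ∈ M) :
    ∃ M' : Submodule C H, Good M' ∧ M ≤ M' ∧ h ∈ M' := by
  classical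
  obtain ⟨hst, hfl, h1, l, hl⟩ := hM
  let Mk : Submodule k H := M.restrictScalars k
  let Ck : Submodule k H := Subalgebra.toSubmodule C
  let a : Submodule k H := Ck ⊓ Mk.comap (LinearMap.mulRight k h)
  have hfh : ∀ f : 𝔸, f • h - f (1 : H) • h ∈ Mk := fun f => by
    rw [← sub_εF_smul]
    exact hh _ (sub_εF_one f)
  by_cases ha : a = ⊥
  · -- the new element generates a free summand
    have hfree : ∀ c : C, c • h ∈ M → c = 0 := fun c hc => by
      have : (c : H) ∈ a := ⟨c.2, hc⟩
      rw [ha, Submodule.mem_bot] at this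
      exact Subtype.ext this
    let ψ : M × C →ₗ[C] H := M.subtype.coprod (LinearMap.toSpanSingleton C H h)
    have hψ : Function.Injective ψ := by
      rw [← LinearMap.ker_eq_bot, eq_bot_iff]
      rintro ⟨m, c⟩ hmc
      have hmc' : (m : H) + c • h = 0 := hmc
      have hc : c = 0 := hfree c (by
        rw [eq_neg_of_add_eq_zero_right hmc']
        exact M.neg_mem m.2)
      subst hc
      rw [zero_smul, add_zero] at hmc'
      rw [Submodule.mem_bot]
      exact Prod.ext (Subtype.ext hmc') rfl
    haveI := hfl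
    haveI : Module.Flat C (M × C) := flat_prod
    refine ⟨LinearMap.range ψ, ⟨?_, Module.Flat.of_linearEquiv (LinearEquiv.ofInjective ψ hψ).symm, ⟨(⟨1, h1⟩, 0), by simp [ψ]⟩,
      (l ∘ₗ LinearMap.fst C M C) ∘ₗ (LinearEquiv.ofInjective ψ hψ).symm.toLinearMap, ?_⟩,
      fun m hm => ⟨(⟨m, hm⟩, 0), by simp [ψ]⟩, ⟨(0, 1), by simp [ψ]⟩⟩
    · let Mk' : Submodule k H := (LinearMap.range ψ).restrictScalars k
      have hle : Mk ≤ Mk' := fun m hm => ⟨(⟨m, hm⟩, 0), by simp [ψ]⟩
      have hh' : h ∈ Mk' := ⟨(0, 1), by simp [ψ]⟩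
      rintro f _ ⟨⟨m, c⟩, rfl⟩
      have e : ψ (m, c) = (m : H) + c • h := rfl
      rw [e, smul_add]
      refine Mk'.add_mem (hle (hst f _ m.2)) ?_
      have hhm : CoalgebraStruct.comul (R := k) h ∈ LinearMap.range (Mk'.subtype.rTensor H) := by
        refine (ComodLib.mem_range_rTensor_iff Mk' _).2 fun g => ?_
        have := Mk'.add_mem (hle (hfh (toConv g))) (Mk'.smul_mem (g 1) hh')
        rw [show (toConv g : 𝔸) (1 : H) = g 1 from rfl, sub_add_cancel] at this
        exact this
      have hmul := mul_mem_range (R := Mk') (fun p hp q hq => (LinearMap.range ψ).smul_mem ⟨p, hp⟩ hq)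
        (comul_mem Ck hC c.2) hhm
      rw [← Bialgebra.comul_mul] at hmul
      exact (ComodLib.mem_range_rTensor_iff Mk' _).1 hmul f.ofConv
    · have e : (LinearEquiv.ofInjective ψ hψ).symm ⟨1, ⟨(⟨1, h1⟩, 0), by simp [ψ]⟩⟩ = (⟨1, h1⟩, 0) :=
        (LinearEquiv.ofInjective ψ hψ).symm_apply_eq.2 (Subtype.ext (by simp [ψ]))
      show l ((LinearEquiv.ofInjective ψ hψ).symm ⟨1, _⟩).1 = 1
      rw [e]
      exact hl
  · -- the stable ideal of relations is everything
    refine ⟨M, ⟨hst, hfl, h1, l, hl⟩, le_rfl, ?_⟩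
    obtain ⟨c₀, hc₀, hne₀⟩ := Submodule.exists_mem_ne_zero_of_ne_bot ha
    have hex : ∃ n, ∃ c ∈ a, c ≠ 0 ∧ c ∈ K k H n :=
      (exhaustive_of_isUnipotent hU c₀).imp fun n hn => ⟨c₀, hc₀, hne₀, hn⟩
    obtain ⟨c, hc, hne, hn⟩ := Nat.find_spec hex
    obtain ⟨hcC, hcM⟩ := hc
    have hast : ∀ f : 𝔸, f • c ∈ a := by
      intro f
      refine ⟨hC f c hcC, ?_⟩
      have hd : CoalgebraStruct.comul (R := k) h - h ⊗ₜ[k] (1 : H) ∈
          LinearMap.range (Mk.subtype.rTensor H) := by
        refine (ComodLib.mem_range_rTensor_iff Mk _).2 fun g => ?_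
        rw [map_sub, ComodLib.slice_tmul]
        exact hfh (toConv g)
      have h2 : CoalgebraStruct.comul (R := k) (c * h) ∈ LinearMap.range (Mk.subtype.rTensor H) :=
        comul_mem Mk hst hcM
      have h3 := mul_mem_range (R := Mk) (fun p hp q hq => M.smul_mem ⟨p, hp⟩ hq) (comul_mem Ck hC hcC) hd
      have h4 := (ComodLib.mem_range_rTensor_iff Mk _).1 (Submodule.sub_mem _ h2 h3) f.ofConv
      rw [Bialgebra.comul_mul, ← mul_sub, sub_sub_cancel] at h4
      show (f • c) * h ∈ Mk
      rw [show f • c = ComodLib.slice f.ofConv (CoalgebraStruct.comul (R := k) c) from rfl]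
      convert h4 using 1
      generalize CoalgebraStruct.comul (R := k) c = z
      induction z with
      | zero => simp
      | add p q hp hq => simp only [add_mul, map_add, hp, hq]
      | tmul p q => simp [Algebra.TensorProduct.tmul_mul_tmul]
    have hc1 : c ∈ K k H 1 := by
      refine mem_K_succ.2 fun f hf => ?_
      rw [K_zero, Submodule.mem_bot]
      cases hn0 : Nat.find hex with
      | zero => rw [hn0, K_zero, Submodule.mem_bot] at hn; exact absurd hn hne
      | succ n =>
        rw [hn0] at hn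
        by_contra hfc
        exact Nat.find_min hex (by omega : n < Nat.find hex) ⟨f • c, hast f, hfc, mem_K_succ.1 hn f hf⟩
    have he := eq_counit_smul_one_of_mem_K_one hc1
    have hcM' : c * h ∈ Mk := hcM
    rw [he, smul_mul_assoc, one_mul] at hcM'
    have hε : CoalgebraStruct.counit (R := k) c ≠ 0 := fun h0 => hne (by rw [he, h0, zero_smul])
    exact (Submodule.smul_mem_iff _ hε).1 hcM'

/-- Every finite family lies in a good submodule. -/
theorem exists_good (hU : IsUnipotent k H) (hC : ∀ f : 𝔸, ∀ c ∈ C, f • c ∈ C) (t : Finset H) :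
    ∃ M : Submodule C H, Good M ∧ (t : Set H) ⊆ M := by
  classical
  let W' : Submodule 𝔸 H := ⨆ a : t, Submodule.span 𝔸 {(a : H)}
  let W : Submodule k H := W'.restrictScalars k
  haveI : FiniteDimensional k W := by
    haveI : ∀ a : t, FiniteDimensional k ↥((Submodule.span 𝔸 {(a : H)}).restrictScalars k) :=
      fun a => ComodLib.finite_span_singleton H (a : H)
    have h : W = ⨆ a : t, (Submodule.span 𝔸 {(a : H)}).restrictScalars k := by
      simp only [W, W', Submodule.restrictScalars_iSup]
    rw [h]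
    infer_instance
  have hn : ∀ n, ∃ M : Submodule C H, Good M ∧ W ⊓ K k H n ≤ M.restrictScalars k := by
    intro n
    induction n with
    | zero =>
      exact ⟨_, good_one hC,
        by rw [K_zero, inf_bot_eq]; exact bot_le⟩
    | succ n ih =>
      obtain ⟨M, hM, hle⟩ := ih
      haveI : FiniteDimensional k ↥(W ⊓ K k H (n + 1)) := Submodule.finiteDimensional_of_le inf_le_left
      obtain ⟨b, hb⟩ := Module.Finite.iff_fg.1 (inferInstance : Module.Finite k ↥(W ⊓ K k H (n + 1)))
      have hbW : ∀ x ∈ b, x ∈ W ⊓ K k H (n + 1) := fun x hx => hb ▸ Submodule.subset_span hx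
      suffices h : ∀ s ⊆ b, ∃ M' : Submodule C H, Good M' ∧ M ≤ M' ∧ (s : Set H) ⊆ M' by
        obtain ⟨M', hM', -, hs⟩ := h b subset_rfl
        exact ⟨M', hM', hb ▸ Submodule.span_le.2 hs⟩
      intro s
      induction s using Finset.induction with
      | empty => exact fun _ => ⟨M, hM, le_rfl, by simp⟩
      | insert x s hx ihs =>
        intro hsub
        obtain ⟨M', hM', hMM', hs⟩ := ihs ((Finset.subset_insert x s).trans hsub)
        have hxW := hbW x (hsub (Finset.mem_insert_self x s))
        obtain ⟨M'', hM'', hMM'', hx''⟩ := exists_good_step hU hC hM' (h := x)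
          fun f hf => hMM' (hle ⟨W'.smul_mem f hxW.1, mem_K_succ.1 hxW.2 f hf⟩)
        refine ⟨M'', hM'', hMM'.trans hMM'', ?_⟩
        rw [Finset.coe_insert, Set.insert_subset_iff]
        exact ⟨hx'', fun y hy => hMM'' (hs hy)⟩
  choose n hn' using exhaustive_of_isUnipotent hU
  obtain ⟨M, hM, hle⟩ := hn (t.sup n)
  exact ⟨M, hM, fun x hx => hle ⟨Submodule.mem_iSup_of_mem (⟨x, hx⟩ : t) (Submodule.mem_span_singleton_self x),
    K_mono (Finset.le_sup (f := n) hx) (hn' x)⟩⟩

/-- A unipotent Hopf algebra is faithfully flat over a coideal subalgebra. -/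
theorem faithfullyFlat (hU : IsUnipotent k H) (hC : ∀ f : 𝔸, ∀ c ∈ C, f • c ∈ C) : Module.FaithfullyFlat C H := by
  classical
  haveI : Module.Flat C H := by
    refine Module.Flat.of_forall_isTrivialRelation fun {l} {f} {x} hfx => ?_
    obtain ⟨M, ⟨-, hfl, -⟩, htM⟩ := exists_good hU hC (Finset.univ.image x)
    let y : Fin l → M := fun i => ⟨x i, htM (by simp)⟩
    have hy : ∑ i, f i • y i = 0 := Subtype.ext (by
      rw [AddSubmonoidClass.coe_finsetSum, ZeroMemClass.coe_zero]; exact hfx)
    obtain ⟨m, a, z, hz, ha⟩ := Module.Flat.iff_forall_isTrivialRelation.1 hfl hy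
    exact ⟨m, a, fun j => (z j : H), fun i => by
      have := congrArg (Subtype.val : M → H) (hz i)
      rw [AddSubmonoidClass.coe_finsetSum] at this
      exact this, ha⟩
  exact Module.FaithfullyFlat.of_comap_surjective (Groth.Agent.S15127.comap_surjective hU hC)

end PurInsLib.Coideal
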