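import Groth.Agent.PurInsLib.Points
import Groth.Agent.S5426
import Groth.Agent.S7951
import Groth.Prelude.Def_CoactBr

/-! The counit kernel of a purely inseparable Weil restriction is unipotent. -/

set_option autoImplicit false
set_option linter.style.haveILetI false
set_option backward.isDefEq.respectTransparency false
set_option maxHeartbeats 1000000
set_option synthInstance.maxHeartbeats 100000

universe u

open CategoryTheory CategoryTheory.Limits MonoidalCategory CartesianMonoidalCategory AlgebraicGeometry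
open scoped MonObj TensorProduct
open Algebra.TensorProduct (includeLeftRingHom)
open CoactBr (pt sp)

noncomputable section

attribute [-instance] CategoryTheory.Hom.commGroup

namespace PurInsLib

variable {k k' : Type u} [Field k] [Field k'] [Algebra k k']

section powers
variable {R R' : Type u} [CommRing R] [Algebra k R] [Algebra k' R] [IsScalarTower k k' R]
  [CommRing R'] [Algebra k R'] [Algebra k' R'] [IsScalarTower k k' R']

/-- A linear map of coefficient algebras preserves the powers of the kernel of multiplication. -/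
theorem rTensor_mem_ker_pow (F : R →ₗ[k'] R') {m : ℕ} {w : R ⊗[k] k'} (hw : w ∈ RingHom.ker (mult k k' R) ^ m) :
    (F.restrictScalars k).rTensor k' w ∈ RingHom.ker (mult k k' R') ^ m := by
  let N₀ := RingHom.ker (mult k k' k')
  let ι₀ := (Algebra.TensorProduct.map ((Algebra.ofId k' R).restrictScalars k) (AlgHom.id k k')).toRingHom
  let ι₁ := (Algebra.TensorProduct.map ((Algebra.ofId k' R').restrictScalars k) (AlgHom.id k k')).toRingHom
  have hle : RingHom.ker (mult k k' R) ≤ N₀.map ι₀ := by
    intro z hz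
    suffices h : ∀ z : R ⊗[k] k', z - includeLeftRingHom (R := k) (mult k k' R z) ∈ N₀.map ι₀ by
      have := h z
      rwa [show mult k k' R z = 0 from hz, map_zero, sub_zero] at this
    intro z
    induction z with
    | zero => simp
    | add a b ha hb =>
      rw [map_add, map_add, add_sub_add_comm]
      exact add_mem ha hb
    | tmul r x =>
      have h0 : cst k k' k' x - includeLeftRingHom (R := k) x ∈ N₀ := by
        rw [RingHom.mem_ker, map_sub, mult_cst, mult_inl]; simp
      have h1 := (N₀.map ι₀).mul_mem_left (includeLeftRingHom (R := k) r) (Ideal.mem_map_of_mem ι₀ h0)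
      convert h1 using 1
      simp [ι₀, cst, mult_tmul, mul_sub, Algebra.TensorProduct.tmul_mul_tmul]
  have hι₁ : (N₀ ^ m).map ι₁ ≤ RingHom.ker (mult k k' R') ^ m := by
    rw [Ideal.map_pow]
    refine Ideal.pow_right_mono (Ideal.map_le_iff_le_comap.2 fun y hy => ?_) m
    show mult k k' R' (ι₁ y) = 0
    rw [show mult k k' R' (ι₁ y) = Algebra.ofId k' R' (mult k k' k' y) from mult_map k' (Algebra.ofId k' R') y,
      show mult k k' k' y = 0 from hy, map_zero]
  have hmul : ∀ (y : k' ⊗[k] k') (u : R ⊗[k] k'),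
      (F.restrictScalars k).rTensor k' (ι₀ y * u) = ι₁ y * (F.restrictScalars k).rTensor k' u := by
    intro y u
    induction y with
    | zero => simp
    | add a b ha hb => simp only [map_add, add_mul, ha, hb]
    | tmul a x =>
      induction u with
      | zero => simp
      | add p q hp hq => simp only [map_add, mul_add, hp, hq]
      | tmul r z =>
        simp only [ι₀, ι₁, AlgHom.toRingHom_eq_coe, RingHom.coe_coe, Algebra.TensorProduct.map_tmul, AlgHom.id_apply,
          Algebra.TensorProduct.tmul_mul_tmul, LinearMap.rTensor_tmul, LinearMap.restrictScalars_apply,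
          AlgHom.restrictScalars_apply, Algebra.ofId_apply]
        rw [← Algebra.smul_def, map_smul, Algebra.smul_def]
  have hw' : w ∈ (N₀ ^ m).map ι₀ := by
    rw [Ideal.map_pow]; exact Ideal.pow_right_mono hle m hw
  rw [Ideal.map, ← Ideal.submodule_span_eq] at hw'
  refine Submodule.span_induction (p := fun z _ => ∀ u, (F.restrictScalars k).rTensor k' (z * u) ∈
    RingHom.ker (mult k k' R') ^ m) ?_ ?_ ?_ ?_ hw' 1 |> fun h => by rwa [mul_one] at h
  · rintro _ ⟨y, hy, rfl⟩ u
    rw [hmul]
    exact Ideal.mul_mem_right _ _ (hι₁ (Ideal.mem_map_of_mem ι₁ hy))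
  · intro u; simp
  · intro a b _ _ ha hb u
    rw [add_mul, map_add]; exact add_mem (ha u) (hb u)
  · intro c a _ ha u
    rw [smul_eq_mul, mul_comm c a, mul_assoc]
    exact ha _

end powers

variable [Module.Finite k k'] [IsPurelyInseparable k k']
  {G' : Over (Spec (CommRingCat.of k'))} [GrpObj G'] {B : Type u} [CommRing B] [Algebra k' B]
  (e : B →ₐ[k'] k') (j : Spec (CommRingCat.of B) ⟶ G'.left) [IsOpenImmersion j]
  (hj : j ≫ G'.hom = Spec.map (CommRingCat.ofHom (algebraMap k' B)))
  (he : Spec.map (CommRingCat.ofHom e.toRingHom) ≫ j = η[G'].left)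
  {Rr : Over (Spec (CommRingCat.of k))} [GrpObj Rr] {q : Red.bc (bse k k') Rr ⟶ G'} [IsMonHom q]
  {K : Over (Spec (CommRingCat.of k'))} [GrpObj K] {iK : K ⟶ Red.bc (bse k k') Rr} [IsMonHom iK]
  (hK : AlgGrp.IsKernel iK q) (hR : WeilRes.IsWeilRes (bse k k') G' Rr q)

include hj he hK hR in
/-- A point which is additive for three maps with a contraction is trivial. -/
theorem eq_one_of_primitive {R R₂ : Type u} [CommRing R] [Algebra k R] [Algebra k' R] [IsScalarTower k k' R]
    [CommRing R₂] [Algebra k R₂] [Algebra k' R₂] [IsScalarTower k k' R₂]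
    (a b c : R →ₐ[k'] R₂) (F : R₂ →ₗ[k'] R) (hFa : ∀ r, F (a r) = r) (hFbc : ∀ r, F (b r) = F (c r))
    (g : TT k' R ⟶ K)
    (hg : (specMap a.toRingHom a.comp_algebraMap ≫ g) * (specMap b.toRingHom b.comp_algebraMap ≫ g) =
      specMap c.toRingHom c.comp_algebraMap ≫ g) : g = 1 := by
  obtain ⟨χ, hχ, hP⟩ := exists_adm R e j hj he hK g
  let N := RingHom.ker (mult k k' R)
  let N₂ := RingHom.ker (mult k k' R₂)
  suffices h : ∀ i, ∀ x, χ x - unitPt (k := k) e R x ∈ N ^ (i + 1) by
    obtain ⟨M, hM⟩ := isNilpotent_ker_mult (k := k) (k' := k') R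
    have h0 : χ = unitPt (k := k) e R := RingHom.ext fun x => by
      have h1 := Ideal.pow_le_pow_right (Nat.le_succ M) (h M x)
      rwa [hM, Ideal.zero_eq_bot, Ideal.mem_bot, sub_eq_zero] at h1
    refine pts_injective (bse k k') hK hR ?_
    rw [← cancel_epi (wMap k k' R), hP, pts_one, MonObj.comp_one, ← ptOf_one e j hj he]
    congr 1
  intro i
  induction i with
  | zero =>
    intro x
    rw [zero_add, pow_one, RingHom.mem_ker, map_sub, hχ.mult_eq, (isAdm_unitPt e R).mult_eq, sub_self]
  | succ i ih =>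
    intro x
    let π := Ideal.Quotient.mk (N₂ ^ (i + 2))
    let L := (N₂ ^ (i + 1)).map π
    have hL : ∀ p ∈ L, ∀ r ∈ L, p * r = 0 := by
      intro p hp r hr
      obtain ⟨p, hp', rfl⟩ := (Ideal.mem_map_iff_of_surjective π Ideal.Quotient.mk_surjective).1 hp
      obtain ⟨r, hr', rfl⟩ := (Ideal.mem_map_iff_of_surjective π Ideal.Quotient.mk_surjective).1 hr
      rw [← map_mul, Ideal.Quotient.eq_zero_iff_mem]
      refine Ideal.pow_le_pow_right (show i + 2 ≤ (i + 1) + (i + 1) by omega) ?_
      rw [Submodule.pow_add N₂ (by omega)]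
      exact Ideal.mul_mem_mul hp' hr'
    let ρ := π.comp (cst k k' R₂)
    let T : (R →ₐ[k'] R₂) → R ⊗[k] k' →+* R₂ ⊗[k] k' := fun φ =>
      (Algebra.TensorProduct.map (φ.restrictScalars k) (AlgHom.id k k')).toRingHom
    have hT : ∀ φ : R →ₐ[k'] R₂, (N ^ (i + 1)).map (T φ) ≤ N₂ ^ (i + 1) := fun φ => by
      rw [Ideal.map_pow]
      refine Ideal.pow_right_mono (Ideal.map_le_iff_le_comap.2 fun y hy => ?_) _
      show mult k k' R₂ (T φ y) = 0
      rw [show mult k k' R₂ (T φ y) = φ (mult k k' R y) from mult_map R φ y, show mult k k' R y = 0 from hy, map_zero]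
    have hd : ∀ φ : R →ₐ[k'] R₂, ∀ y, (π.comp (push φ χ)) y - ρ (e y) ∈ L := fun φ y => by
      rw [RingHom.comp_apply, RingHom.comp_apply, ← map_sub]
      refine Ideal.mem_map_of_mem π (hT φ ?_)
      rw [show push φ χ y - cst k k' R₂ (e y) = T φ (χ y - unitPt (k := k) e R y) from by
        rw [map_sub]
        show _ = push φ χ y - push φ (unitPt (k := k) e R) y
        rw [push_unitPt]; rfl]
      exact Ideal.mem_map_of_mem _ (ih y)
    have hc : ∀ φ : R →ₐ[k'] R₂, ∀ y, (π.comp (push φ χ)) (algebraMap k' B y) = ρ y := fun φ y => by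
      simp [ρ, (isAdm_push e φ hχ).cst_eq]
    obtain ⟨σ, hσ, h1, h2⟩ := ptOf_mul e j hj he L hL (π.comp (push a χ)) (π.comp (push b χ)) (hc a) (hc b) (hd a) (hd b)
    have h3 : ptOf j hj σ hσ = ptOf j hj (π.comp (push c χ)) (hc c) := by
      have hp := fun φ : R →ₐ[k'] R₂ => (push_point R₂ e j hj g hχ hP φ)
      rw [← h2, ← ptOf_comp j hj π rfl _ (isAdm_push e a hχ).cst_eq, ← ptOf_comp j hj π rfl _ (isAdm_push e b hχ).cst_eq,
        ← ptOf_comp j hj π rfl _ (isAdm_push e c hχ).cst_eq, ← hp, ← hp, ← hp, ← MonObj.comp_mul, ← MonObj.comp_mul,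
        ← pts_mul, hg]
    have h4 := h1 x
    rw [show σ x = π (push c χ x) from congr($(ptOf_injective j hj h3) x), RingHom.comp_apply, RingHom.comp_apply,
      RingHom.comp_apply, ← map_add, ← map_sub, Ideal.Quotient.mk_eq_mk_iff_sub_mem] at h4
    have h5 := rTensor_mem_ker_pow F h4
    let z := χ x - unitPt (k := k) e R x
    have h6 : push c χ x - (push a χ x + push b χ x - cst k k' R₂ (e x)) = T c z - T a z - T b z := by
      simp only [z, map_sub]
      show _ = (push c χ x - push c (unitPt (k := k) e R) x) - (push a χ x - push a (unitPt (k := k) e R) x) -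
        (push b χ x - push b (unitPt (k := k) e R) x)
      simp only [push_unitPt]
      show _ = (_ - cst k k' R₂ (e x)) - (_ - cst k k' R₂ (e x)) - (_ - cst k k' R₂ (e x))
      ring
    have h7 : ∀ w : R ⊗[k] k', (F.restrictScalars k).rTensor k' (T c w - T a w - T b w) = -w := by
      intro w
      have ea : (F.restrictScalars k).rTensor k' (T a w) = w := by
        induction w with
        | zero => simp
        | add p q hp hq => simp only [map_add, hp, hq]
        | tmul r y => simp [T, hFa]
      have eb : (F.restrictScalars k).rTensor k' (T c w) = (F.restrictScalars k).rTensor k' (T b w) := by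
        clear ea
        induction w with
        | zero => simp
        | add p q hp hq => simp only [map_add, hp, hq]
        | tmul r y => simp [T, hFbc]
      rw [map_sub, map_sub, ea, eb]; abel
    rw [h6, h7] at h5
    exact neg_mem_iff.1 h5

include hj he hK hR in
/-- The kernel is unipotent. -/
theorem isUnipotent_kernel {A : Type u} [CommRing A] [HopfAlgebra k' A] [Algebra.FiniteType k' A]
    (v : sp k' A ≅ K) [IsMonHom v.hom] : HopfRep.IsUnipotent k' A := by
  let Ω := AlgebraicClosure k'
  haveI : Algebra.FiniteType Ω (Ω ⊗[k'] A) := inferInstance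
  rw [Groth.Agent.S7951.result k' Ω A, Groth.Agent.S5426.result Ω (Ω ⊗[k'] A)]
  rintro n hn ⟨φ, hφ⟩
  let M := Multiplicative (ZMod n)
  let Λ := MonoidAlgebra Ω M
  let ψ : A →ₐ[k'] Λ := ((φ : Ω ⊗[k'] A →ₐ[Ω] Λ).restrictScalars k').comp Algebra.TensorProduct.includeRight
  let a : Λ →ₐ[k'] Λ ⊗[Ω] Λ := (Algebra.TensorProduct.includeLeft : Λ →ₐ[Ω] Λ ⊗[Ω] Λ).restrictScalars k'
  let b : Λ →ₐ[k'] Λ ⊗[Ω] Λ := (Algebra.TensorProduct.includeRight : Λ →ₐ[Ω] Λ ⊗[Ω] Λ).restrictScalars k'
  let c : Λ →ₐ[k'] Λ ⊗[Ω] Λ := (Bialgebra.comulAlgHom Ω Λ).restrictScalars k'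
  let I : Λ →ₗ[Ω] Ω := (Finsupp.lapply (1 : M)).comp (MonoidAlgebra.coeffLinearEquiv Ω).toLinearMap
  let F : Λ ⊗[Ω] Λ →ₗ[Ω] Λ := (TensorProduct.rid Ω Λ).toLinearMap ∘ₗ I.lTensor Λ
  have hI : ∀ f : Λ, I f = f.coeff 1 := fun f => rfl
  have hI1 : I 1 = 1 := by rw [hI]; exact MonoidAlgebra.coeff_one_one
  have hFbc : ∀ r : Λ, F (b r) = F (c r) := by
    intro r
    induction r using MonoidAlgebra.induction_linear with
    | zero => simp
    | add p q hp hq => simp only [map_add, hp, hq]
    | single m w =>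
      have hc : c (MonoidAlgebra.single m w) = w • (MonoidAlgebra.single m (1 : Ω) ⊗ₜ[Ω] MonoidAlgebra.single m (1 : Ω)) := by
        show CoalgebraStruct.comul (R := Ω) (MonoidAlgebra.single m w : Λ) = _
        rw [MonoidAlgebra.comul_single, CommSemiring.comul_apply, TensorProduct.map_tmul, TensorProduct.smul_tmul',
          MonoidAlgebra.smul_single, smul_eq_mul, mul_one]
        simp only [MonoidAlgebra.lsingle_apply]
        rw [show MonoidAlgebra.single m w = w • MonoidAlgebra.single m (1 : Ω) by rw [MonoidAlgebra.smul_single, smul_eq_mul, mul_one],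
          TensorProduct.tmul_smul, TensorProduct.smul_tmul']
      rw [hc, map_smul]
      simp only [F, b, LinearMap.comp_apply, LinearEquiv.coe_toLinearMap, LinearMap.lTensor_tmul,
        Algebra.TensorProduct.includeRight_apply, AlgHom.restrictScalars_apply, TensorProduct.rid_tmul, hI,
        MonoidAlgebra.coeff_single]
      by_cases hm : m = 1
      · subst hm; simp [MonoidAlgebra.one_def]; rfl
      · simp [Finsupp.single_eq_of_ne (Ne.symm hm)]
  let g : TT k' Λ ⟶ K := pt ψ ≫ v.hom
  have hψ : (Algebra.TensorProduct.lift (a.comp ψ) (b.comp ψ) fun _ _ => .all _ _).comp (Bialgebra.comulAlgHom k' A) =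
      c.comp ψ := by
    refine AlgHom.ext fun x => ?_
    have h := CoalgHomClass.map_comp_comul_apply φ ((1 : Ω) ⊗ₜ[k'] x)
    show _ = CoalgebraStruct.comul (R := Ω) (φ (1 ⊗ₜ[k'] x))
    rw [← h, TensorProduct.comul_tmul, Bialgebra.comul_one, Algebra.TensorProduct.one_def]
    show Algebra.TensorProduct.lift (a.comp ψ) (b.comp ψ) (fun _ _ => Commute.all _ _) (CoalgebraStruct.comul (R := k') x) = _
    generalize CoalgebraStruct.comul (R := k') x = z
    induction z with
    | zero => simp
    | add p q hp hq => simp only [map_add, TensorProduct.tmul_add, hp, hq]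
    | tmul p q =>
      simp [a, b, ψ, Algebra.TensorProduct.tmul_mul_tmul]
      rfl
  have hg : (specMap a.toRingHom a.comp_algebraMap ≫ g) * (specMap b.toRingHom b.comp_algebraMap ≫ g) =
      specMap c.toRingHom c.comp_algebraMap ≫ g := by
    show (pt a ≫ pt ψ ≫ v.hom) * (pt b ≫ pt ψ ≫ v.hom) = pt c ≫ pt ψ ≫ v.hom
    rw [← Category.assoc, ← Category.assoc, ← Category.assoc, ← MonObj.mul_comp, ← CoactBr.pt_comp, ← CoactBr.pt_comp,
      ← CoactBr.pt_comp, CoactBr.pt_mul_pt, hψ]
  have h1 := eq_one_of_primitive e j hj he hK hR a b c (F.restrictScalars k')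
    (fun r => by simp [F, a, hI1]) hFbc g hg
  have h2 : pt ψ = (1 : sp k' Λ ⟶ sp k' A) := by
    rw [← cancel_mono v.hom, MonObj.one_comp]; exact h1
  rw [CoactBr.one_eq_pt] at h2
  have h3 := CoactBr.pt_injective h2
  haveI : Fact n.Prime := ⟨hn⟩
  obtain ⟨y, hy⟩ := hφ (MonoidAlgebra.single (Multiplicative.ofAdd (1 : ZMod n)) 1)
  have h4 : ∀ y, ∃ w : Ω, φ y = algebraMap Ω Λ w := by
    intro y
    induction y with
    | zero => exact ⟨0, by simp⟩
    | add p q hp hq =>
      obtain ⟨w₁, h₁⟩ := hp; obtain ⟨w₂, h₂⟩ := hq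
      exact ⟨w₁ + w₂, by rw [map_add, map_add, h₁, h₂]⟩
    | tmul w x =>
      refine ⟨w * algebraMap k' Ω (Bialgebra.counitAlgHom k' A x), ?_⟩
      have h5 : φ (1 ⊗ₜ[k'] x) = algebraMap k' Λ (Bialgebra.counitAlgHom k' A x) := DFunLike.congr_fun h3 x
      rw [show w ⊗ₜ[k'] x = w • ((1 : Ω) ⊗ₜ[k'] x) by rw [TensorProduct.smul_tmul', smul_eq_mul, mul_one], map_smul, h5,
        Algebra.smul_def, IsScalarTower.algebraMap_apply k' Ω Λ, map_mul]
  obtain ⟨w, hw⟩ := h4 y
  rw [hy, MonoidAlgebra.coe_algebraMap, Function.comp_apply] at hw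
  have hne : (Multiplicative.ofAdd (1 : ZMod n)) ≠ 1 := fun h => one_ne_zero (Multiplicative.ofAdd.injective h)
  have := congrArg (fun f : Λ => f.coeff (Multiplicative.ofAdd (1 : ZMod n))) hw
  classical
  simp only [MonoidAlgebra.coeff_single, Finsupp.single_eq_same, Function.comp_apply] at this
  rw [Finsupp.single_apply, if_neg (fun hh => hne hh.symm)] at this
  exact one_ne_zero this

end PurInsLib
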