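import Groth.Agent.PurInsLib.FlatCoideal
import Groth.Agent.S16476
import Groth.Agent.S5422
import Groth.Agent.HopfFFLib.Consequences
import Groth.Agent.HopfFFLib.Injective
import Groth.Agent.MonoQuotLib.Orbit
import Groth.Agent.DiagRepLib.Scheme
import Groth.Prelude.Def_CoactBr

/-! Homogeneous spaces of unipotent affine groups are affine. -/

set_option autoImplicit false
set_option linter.style.haveILetI false
set_option backward.isDefEq.respectTransparency false
set_option maxHeartbeats 1000000
set_option synthInstance.maxHeartbeats 200000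

universe u

open CategoryTheory CategoryTheory.Limits MonoidalCategory CartesianMonoidalCategory AlgebraicGeometry
open scoped MonObj TensorProduct ComodLib
open CoactBr HopfRep

noncomputable section

attribute [-instance] CategoryTheory.Hom.commGroup

namespace PurInsLib.UnipQuot

attribute [local instance] CoactBr.braidedAlgSpecOf

variable {k : Type u} [Field k] {A : Type u} [CommRing A] [HopfAlgebra k A]

theorem groupLike_eq_one (hU : IsUnipotent k A) {χ : A} (hχ : IsGroupLikeElem k χ) : χ = 1 := by
  by_contra hne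
  have hsp : χ ∉ Submodule.span k {(1 : A)} := fun h => by
    obtain ⟨c, rfl⟩ := Submodule.mem_span_singleton.1 h
    have := hχ.counit_eq_one
    rw [map_smul, Bialgebra.counit_one, smul_eq_mul, mul_one] at this
    rw [this, one_smul] at hne
    exact hne rfl
  obtain ⟨f, hf, hf1⟩ := Submodule.exists_dual_map_eq_bot_of_notMem hsp inferInstance
  have h1 : f 1 = 0 := by
    have : f 1 ∈ (Submodule.span k {(1 : A)}).map f := ⟨1, Submodule.mem_span_singleton_self 1, rfl⟩
    rwa [hf1, Submodule.mem_bot] at this
  obtain ⟨n, hn⟩ := Groth.Agent.UnipHopf.exhaustive_of_isUnipotent hU χ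
  induction n with
  | zero =>
    rw [Groth.Agent.UnipHopf.K_zero, Submodule.mem_bot] at hn
    exact hsp (hn ▸ Submodule.zero_mem _)
  | succ n ih =>
    refine ih ?_
    have h2 := Groth.Agent.UnipHopf.mem_K_succ.1 hn (WithConv.toConv ((f χ)⁻¹ • f))
      (show (f χ)⁻¹ • f 1 = 0 by rw [h1, smul_zero])
    rw [show (WithConv.toConv ((f χ)⁻¹ • f) : ComodLib.Dual' k A) • χ =
      ComodLib.slice ((f χ)⁻¹ • f) (CoalgebraStruct.comul (R := k) χ) from rfl, hχ.comul_eq_tmul_self,
      ComodLib.slice_tmul, LinearMap.smul_apply, smul_eq_mul, inv_mul_cancel₀ hf, one_smul] at h2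
    exact h2

variable {V : Type u} [AddCommGroup V] [Module k V] [Comod k A V] {R : Type u} [CommRing R] [Algebra k R]

/-- The translate of a vector by a point. -/
def act (g : A →ₐ[k] R) (v : V) : V ⊗[k] R := LinearMap.lTensor V g.toLinearMap (Comod.coact (k := k) (A := A) v)

/-- Product of points. -/
def mulPt (g h : A →ₐ[k] R) : A →ₐ[k] R :=
  (Algebra.TensorProduct.lift g h fun _ _ => .all _ _).comp (Bialgebra.comulAlgHom k A)

/-- Extension of a translation to `V ⊗ R`. -/
def actMap (g : A →ₐ[k] R) : V ⊗[k] R →ₗ[k] V ⊗[k] R :=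
  TensorProduct.lift (LinearMap.mk₂ k
    (fun x r => LinearMap.lTensor V (LinearMap.mulRight k r) (act g x))
    (fun x y r => by simp [act]) (fun c x r => by simp [act])
    (fun x r s => by
      rw [show LinearMap.mulRight k (r + s) = LinearMap.mulRight k r + LinearMap.mulRight k s from
        LinearMap.ext fun a => mul_add a r s, LinearMap.lTensor_add, LinearMap.add_apply])
    (fun c x r => by
      rw [show LinearMap.mulRight k (c • r) = c • LinearMap.mulRight k r from
        LinearMap.ext fun a => Algebra.mul_smul_comm c a r, LinearMap.lTensor_smul, LinearMap.smul_apply]))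

theorem act_mulPt' (g h : A →ₐ[k] R) (v : V) : act (mulPt g h) v = actMap g (act h v) := by
  have hz : ∀ z : V ⊗[k] A, LinearMap.lTensor V (Algebra.TensorProduct.lift g h fun _ _ => .all _ _).toLinearMap
      (TensorProduct.assoc k V A A (LinearMap.rTensor A (Comod.coact (k := k) (A := A) (V := V)) z)) =
      actMap g (LinearMap.lTensor V h.toLinearMap z) := by
    intro z
    induction z using TensorProduct.induction_on with
    | zero => simp
    | add a b ha hb => simp only [map_add, ha, hb]
    | tmul x a =>
      simp only [LinearMap.rTensor_tmul, LinearMap.lTensor_tmul, actMap, TensorProduct.lift.tmul, LinearMap.mk₂_apply, act]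
      generalize Comod.coact (k := k) (A := A) x = y
      induction y using TensorProduct.induction_on with
      | zero => simp
      | add p q hp hq => simp only [TensorProduct.add_tmul, map_add, hp, hq]
      | tmul p q => simp
  refine Eq.trans ?_ (hz (Comod.coact (k := k) (A := A) v))
  rw [show TensorProduct.assoc k V A A (LinearMap.rTensor A (Comod.coact (k := k) (A := A) (V := V))
      (Comod.coact (k := k) (A := A) v)) = LinearMap.lTensor V (CoalgebraStruct.comul (R := k))
      (Comod.coact (k := k) (A := A) v) from LinearMap.congr_fun (Comod.coassoc (k := k) (A := A) (V := V)) v,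
    ← LinearMap.comp_apply, ← LinearMap.lTensor_comp]
  rfl

theorem act_mulPt (g h : A →ₐ[k] R) (v : V) (e : act h v = v ⊗ₜ[k] (1 : R)) : act (mulPt g h) v = act g v := by
  rw [act_mulPt', e, actMap, TensorProduct.lift.tmul, LinearMap.mk₂_apply, LinearMap.mulRight_one,
    LinearMap.lTensor_id, LinearMap.id_apply]

theorem act_one (v : V) : act ((Algebra.ofId k R).comp (Bialgebra.counitAlgHom k A)) v = v ⊗ₜ[k] (1 : R) := by
  have h := LinearMap.congr_fun (Comod.counit_comp (k := k) (A := A) (V := V)) v
  simp only [LinearMap.comp_apply, LinearMap.flip_apply, TensorProduct.mk_apply] at h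
  show LinearMap.lTensor V _ (Comod.coact (k := k) (A := A) v) = _
  rw [show ((Algebra.ofId k R).comp (Bialgebra.counitAlgHom k A)).toLinearMap =
      (Algebra.linearMap k R) ∘ₗ (CoalgebraStruct.counit (R := k) (A := A)) from rfl, LinearMap.lTensor_comp,
    LinearMap.comp_apply, h, LinearMap.lTensor_tmul]
  simp

variable {B : Type u} [CommRing B] [HopfAlgebra k B] [Algebra.FiniteType k A]

/-- Invariant functions separating the left cosets of a closed subgroup of a unipotent group. -/
theorem exists_sep (hU : IsUnipotent k A) (π : A →ₐc[k] B) (hπ : Function.Surjective π) :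
    ∃ C : Subalgebra k A, (∀ f : ComodLib.Dual' k A, ∀ c ∈ C, f • c ∈ C) ∧
      ∀ (R : Type u) [CommRing R] [Algebra k R] (g g' : A →ₐ[k] R),
        (∀ c ∈ C, g c = g' c) ↔ ∃ h : B →ₐ[k] R, g' = mulPt (h.comp (π : A →ₐ[k] B)) g := by
  classical
  haveI : Algebra.FiniteType k B := Algebra.FiniteType.of_surjective (π : A →ₐ[k] B) hπ
  have hUB : IsUnipotent k B := (Groth.Agent.S5422.result k A).1 B π hπ hU
  obtain ⟨V, _, _, _, _, v, -, hrep, hv⟩ := Groth.Agent.S16476.result k A B π hπ fun χ hχ hocc =>
    ⟨1, one_pos, χ, hχ, by rw [groupLike_eq_one hUB hχ, one_pow, one_mul], hocc⟩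
  let b := Module.Free.chooseBasis k V
  let c : Module.Free.ChooseBasisIndex k V → A := fun i =>
    TensorProduct.lid k A ((b.coord i).rTensor A (Comod.coact (k := k) (A := A) v))
  let S := HopfAlgebra.antipodeAlgHom k A
  let C : Subalgebra k A := Algebra.adjoin k (Set.range fun i => S (c i))
  have hdec : Comod.coact (k := k) (A := A) v = ∑ i, b i ⊗ₜ[k] c i := by
    have : ∀ z : V ⊗[k] A, z = ∑ i, b i ⊗ₜ[k] TensorProduct.lid k A ((b.coord i).rTensor A z) := by
      intro z
      induction z using TensorProduct.induction_on with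
      | zero => simp
      | add p q hp hq => simp only [map_add, TensorProduct.tmul_add, Finset.sum_add_distrib, ← hp, ← hq]
      | tmul x a =>
        simp only [LinearMap.rTensor_tmul, TensorProduct.lid_tmul, Module.Basis.coord_apply, ← TensorProduct.smul_tmul,
          ← TensorProduct.sum_tmul, b.sum_repr]
    exact this _
  -- stability
  have hgen : ∀ x ∈ C, CoalgebraStruct.comul (R := k) x ∈ (Algebra.TensorProduct.map C.val (AlgHom.id k A)).range := by
    intro x hx
    suffices h : C ≤ (Algebra.TensorProduct.map C.val (AlgHom.id k A)).range.comap (Bialgebra.comulAlgHom k A) from h hx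
    refine Algebra.adjoin_le ?_
    rintro _ ⟨i, rfl⟩
    show Bialgebra.comulAlgHom k A (S (c i)) ∈ (Algebra.TensorProduct.map C.val (AlgHom.id k A)).range
    have hcom : CoalgebraStruct.comul (R := k) (c i) =
        ∑ j, TensorProduct.lid k A ((b.coord i).rTensor A (Comod.coact (k := k) (A := A) (b j))) ⊗ₜ[k] c j := by
      have h := LinearMap.congr_fun (Comod.coassoc (k := k) (A := A) (V := V)) v
      have hL : ∀ z : V ⊗[k] A, CoalgebraStruct.comul (R := k) (TensorProduct.lid k A ((b.coord i).rTensor A z)) =
          TensorProduct.lid k (A ⊗[k] A) ((b.coord i).rTensor (A ⊗[k] A) (LinearMap.lTensor V (CoalgebraStruct.comul (R := k)) z)) := by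
        intro z
        induction z using TensorProduct.induction_on with
        | zero => simp
        | add p q hp hq => simp only [map_add, hp, hq]
        | tmul x a => simp
      have hR : ∀ (y : V ⊗[k] A) (a : A), TensorProduct.lid k (A ⊗[k] A) ((b.coord i).rTensor (A ⊗[k] A)
          (TensorProduct.assoc k V A A (y ⊗ₜ[k] a))) = TensorProduct.lid k A ((b.coord i).rTensor A y) ⊗ₜ[k] a := by
        intro y a
        induction y using TensorProduct.induction_on with
        | zero => simp
        | add p q hp hq => simp only [map_add, TensorProduct.add_tmul, hp, hq]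
        | tmul x q => simp [TensorProduct.smul_tmul']
      simp only [LinearMap.comp_apply, LinearEquiv.coe_toLinearMap] at h
      rw [show c i = TensorProduct.lid k A ((b.coord i).rTensor A (Comod.coact (k := k) (A := A) v)) from rfl, hL, ← h,
        hdec]
      simp only [map_sum, LinearMap.rTensor_tmul, hR]
    have hS : Bialgebra.comulAlgHom k A (S (c i)) = ∑ j, S (c j) ⊗ₜ[k]
      S (TensorProduct.lid k A ((b.coord i).rTensor A (Comod.coact (k := k) (A := A) (b j)))) := by
      show CoalgebraStruct.comul (R := k) (S (c i)) = _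
      rw [Groth.Agent.HopfFF.comul_antipode, hcom]
      simp [S]
    rw [hS]
    exact Subalgebra.sum_mem _ fun j _ => ⟨⟨_, Algebra.subset_adjoin ⟨j, rfl⟩⟩ ⊗ₜ _, rfl⟩
  refine ⟨C, fun f x hx => ?_, fun R _ _ g g' => ?_⟩
  · obtain ⟨w, hw⟩ := hgen x hx
    rw [show f • x = ComodLib.slice f.ofConv (CoalgebraStruct.comul (R := k) x) from rfl, ← hw]
    clear hw
    induction w using TensorProduct.induction_on with
    | zero => simp
    | add p q hp hq => simp only [map_add]; exact C.add_mem hp hq
    | tmul p q =>
      show ComodLib.slice f.ofConv ((p : A) ⊗ₜ[k] q) ∈ C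
      rw [ComodLib.slice_tmul]
      exact C.smul_mem p.2 _
  · have hpt : ∀ a a' : A →ₐ[k] R, pt (mulPt a a') = pt a * pt a' := fun a a' => (pt_mul_pt a a').symm
    have hinv : ∀ a : A →ₐ[k] R, pt (a.comp S) = (pt a)⁻¹ := fun a => (pt_inv a).symm
    have hcoef : (∀ x ∈ C, g x = g' x) ↔ act (g.comp S) v = act (g'.comp S) v := by
      rw [show (act (g.comp S) v) = ∑ i, b i ⊗ₜ[k] g (S (c i)) by simp [act, hdec, map_sum],
        show (act (g'.comp S) v) = ∑ i, b i ⊗ₜ[k] g' (S (c i)) by simp [act, hdec, map_sum]]
      refine ⟨fun h => Finset.sum_congr rfl fun i _ => by rw [h _ (Algebra.subset_adjoin ⟨i, rfl⟩)], fun h => ?_⟩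
      have hi : ∀ i, g (S (c i)) = g' (S (c i)) := fun i => by
        have := congrArg (fun z => TensorProduct.lid k R ((b.coord i).rTensor R z)) h
        simpa [Finsupp.single_apply] using this
      intro x hx
      refine (AlgHom.eqOn_adjoin_iff (φ := g) (ψ := g')).2 ?_ hx
      rintro _ ⟨i, rfl⟩
      exact hi i
    rw [hcoef]
    constructor
    · intro h
      let a : A →ₐ[k] R := mulPt ((g'.comp S).comp S) (g.comp S)
      have ha : act a v = v ⊗ₜ[k] (1 : R) := by
        rw [act_mulPt', h, ← act_mulPt', ← act_one (A := A) (R := R) v]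
        congr 1
        refine pt_injective ?_
        rw [hpt, hinv, inv_mul_cancel, one_eq_pt]
      have hker := (hrep R a).2 ⟨1, ha⟩
      let h' : B →ₐ[k] R := AlgHom.liftOfSurjective (π : A →ₐ[k] B) hπ a fun x hx => hker x hx
      refine ⟨h', ?_⟩
      rw [show h'.comp (π : A →ₐ[k] B) = a from AlgHom.liftOfSurjective_comp _ hπ _ _]
      refine pt_injective ?_
      rw [hpt, hpt, hinv, hinv, hinv, inv_inv, inv_mul_cancel_right]
    · rintro ⟨h, rfl⟩
      symm
      have hl : act ((h.comp (π : A →ₐ[k] B)).comp S) v = v ⊗ₜ[k] (1 : R) := by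
        have hh : ∀ h₀ : B →ₐ[k] R, act (h₀.comp (π : A →ₐ[k] B)) v = v ⊗ₜ[k] (1 : R) := fun h₀ => by
          show LinearMap.lTensor V (h₀.toLinearMap ∘ₗ π.toLinearMap) (Comod.coact (k := k) (A := A) v) = _
          rw [LinearMap.lTensor_comp, LinearMap.comp_apply, hv, LinearMap.lTensor_tmul, AlgHom.toLinearMap_apply, map_one]
        have : (h.comp (π : A →ₐ[k] B)).comp S = (h.comp (HopfAlgebra.antipodeAlgHom k B)).comp (π : A →ₐ[k] B) :=
          AlgHom.ext fun x => congrArg h (Groth.Agent.HopfFF.map_antipode π x)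
        rw [this]; exact hh _
      have heq : (mulPt (h.comp (π : A →ₐ[k] B)) g).comp S = mulPt (g.comp S) ((h.comp (π : A →ₐ[k] B)).comp S) := by
        refine pt_injective ?_
        rw [hinv, hpt, hpt, hinv, hinv, _root_.mul_inv_rev]
      rw [heq]
      exact act_mulPt _ _ _ hl

/-- A homogeneous space of a unipotent affine group is affine. -/
theorem isAffine_of_cover (hU : IsUnipotent k A) (π : A →ₐc[k] B) (hπ : Function.Surjective π)
    {X : Over (Spec (CommRingCat.of k))} (w : sp k A ⟶ X) [Flat w.left] [Surjective w.left]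
    [LocallyOfFinitePresentation w.left]
    (hw : ∀ (T : Over (Spec (CommRingCat.of k))) (g g' : T ⟶ sp k A),
      g ≫ w = g' ≫ w ↔ ∃ h : T ⟶ sp k B, g' = (h ≫ pt (π : A →ₐ[k] B)) * g) : IsAffine X.left := by
  obtain ⟨C, hC, hsep⟩ := exists_sep hU π hπ
  haveI := Coideal.faithfullyFlat hU hC
  let pC : sp k A ⟶ sp k C := pt C.val
  -- descent of the map to `Spec C`
  obtain ⟨m, hm⟩ := Groth.Agent.MonoQuot.exists_desc_over w pC fun T g g' e => by
    obtain ⟨h, rfl⟩ := (hw T g g').1 e
    let iL : B →ₐ[k] B ⊗[k] A := Algebra.TensorProduct.includeLeft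
    let iR : A →ₐ[k] B ⊗[k] A := Algebra.TensorProduct.includeRight
    let U : sp k (B ⊗[k] A) ⟶ sp k B ⊗ sp k A := lift (pt iL) (pt iR)
    let m' : sp k B ⊗ sp k A ⟶ sp k (B ⊗[k] A) := Functor.LaxMonoidal.μ (algSpec (CommRingCat.of k))
      (Opposite.op (.of k B)) (Opposite.op (.of k A))
    have hUm : U ≫ m' = 𝟙 _ := by
      rw [lift_pt_pt, ← pt_id]
      congr 1
      exact Algebra.TensorProduct.ext (AlgHom.ext fun x => by simp [iL]) (AlgHom.ext fun x => by simp [iR])
    haveI : IsIso m' := inferInstanceAs (IsIso (Functor.LaxMonoidal.μ _ _ _))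
    haveI : IsIso U := by
      rw [show U = inv m' from (IsIso.eq_inv_of_inv_hom_id hUm)]; infer_instance
    have huniv : ((fst (sp k B) (sp k A) ≫ pt (π : A →ₐ[k] B)) * snd _ _) ≫ pC = snd (sp k B) (sp k A) ≫ pC := by
      rw [← cancel_epi U, ← Category.assoc, MonObj.comp_mul, lift_fst_assoc, lift_snd, lift_snd_assoc, ← pt_comp,
        pt_mul_pt, ← pt_comp, ← pt_comp]
      congr 1
      refine AlgHom.ext fun x => ?_
      exact ((hsep _ iR (mulPt (iL.comp (π : A →ₐ[k] B)) iR)).2 ⟨iL, rfl⟩ x x.2).symm
    have := congrArg (lift h g ≫ ·) huniv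
    rw [← Category.assoc, MonObj.comp_mul, lift_fst_assoc, lift_snd, lift_snd_assoc] at this
    exact this.symm
  have hm' : w.left ≫ m.left = Spec.map (CommRingCat.ofHom (algebraMap C A)) := congrArg CommaMorphism.left hm
  let p : Spec (CommRingCat.of A) ⟶ Spec (CommRingCat.of C) := Spec.map (CommRingCat.ofHom (algebraMap C A))
  haveI : Flat p := (HasRingHomProperty.Spec_iff (P := @Flat)).2 (RingHom.flat_algebraMap_iff.2 inferInstance)
  haveI : Surjective p := ⟨PrimeSpectrum.comap_surjective_of_faithfullyFlat⟩
  -- the two projections have the same image in `X`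
  have key : pullback.fst p p ≫ w.left = pullback.snd p p ≫ w.left := by
    rw [← cancel_epi (pullbackSpecIso C A A).inv, pullbackSpecIso_inv_fst_assoc, pullbackSpecIso_inv_snd_assoc]
    let gL : A →ₐ[k] A ⊗[C] A := (Algebra.TensorProduct.includeLeft (R := C) (S := C) (A := A) (B := A)).restrictScalars k
    let gR : A →ₐ[k] A ⊗[C] A := (Algebra.TensorProduct.includeRight (R := C) (A := A) (B := A)).restrictScalars k
    obtain ⟨h, hh⟩ := (hsep (A ⊗[C] A) gL gR).1 fun c hc => by
      have h1 := (Algebra.TensorProduct.includeLeft (R := C) (S := C) (A := A) (B := A)).commutes ⟨c, hc⟩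
      have h2 := (Algebra.TensorProduct.includeRight (R := C) (A := A) (B := A)).commutes ⟨c, hc⟩
      exact h1.trans h2.symm
    have h2 : pt gL ≫ w = pt gR ≫ w := (hw _ _ _).2 ⟨pt h, by rw [hh, ← pt_comp, pt_mul_pt]; rfl⟩
    exact congrArg CommaMorphism.left h2
  -- the graph of `w` is inverse to the projection
  let P := pullback m.left p
  let s : Spec (CommRingCat.of A) ⟶ P := pullback.lift w.left (𝟙 _) (by rw [hm']; exact (Category.id_comp _).symm)
  let e : pullback p p ⟶ P := pullback.lift (pullback.fst p p ≫ w.left) (pullback.snd p p)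
    (by rw [Category.assoc, hm']; exact pullback.condition)
  have sqe : IsPullback e (pullback.fst p p) (pullback.fst m.left p) w.left :=
    IsPullback.of_right (h₁₂ := pullback.snd m.left p) (h₂₂ := m.left) (v₁₃ := p) (by
      have hh := (IsPullback.of_hasPullback p p).flip
      rw [show e ≫ pullback.snd m.left p = pullback.snd p p from pullback.lift_snd _ _ _, hm']
      exact hh) (pullback.lift_fst _ _ _) (IsPullback.of_hasPullback m.left p).flip
  haveI : Flat e := MorphismProperty.of_isPullback (P := @Flat) sqe.flip ‹_›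
  haveI : Surjective e := MorphismProperty.of_isPullback (P := @Surjective) sqe.flip ‹_›
  haveI := Flat.epi_of_flat_of_surjective e
  haveI : IsIso (pullback.snd m.left p) := by
    refine ⟨s, ?_, pullback.lift_snd _ _ _⟩
    refine (cancel_epi e).1 (Eq.trans (b := e) ?_ (Category.comp_id _).symm)
    refine pullback.hom_ext ?_ ?_
    · simp only [s, e, Category.assoc, pullback.lift_fst, pullback.lift_snd_assoc]
      exact key.symm
    · simp only [s, e, Category.assoc, pullback.lift_snd]
      erw [pullback.lift_snd]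
  haveI : IsAffineHom p := isAffineHom_of_isAffine p
  haveI : IsIso m.left := MorphismProperty.of_isPullback_of_descendsAlong (P := MorphismProperty.isomorphisms Scheme)
    (Q := @Surjective ⊓ @Flat ⊓ @QuasiCompact) (IsPullback.of_hasPullback m.left p).flip
    ⟨⟨‹_›, ‹_›⟩, inferInstance⟩ (inferInstanceAs (IsIso (pullback.snd m.left p)))
  haveI : IsAffine (sp k C).left := inferInstanceAs (IsAffine (Spec _))
  exact IsAffine.of_isIso m.left

end PurInsLib.UnipQuot
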